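import Cfsg.Agent.H26.A8Sub
import Cfsg.Agent.H26.AutP

/-! Nonsolvable subgroups of the alternating group of degree eight with a normal subgroup of odd order. -/

set_option autoImplicit false
set_option linter.style.haveILetI false

namespace Cfsg.Agent.H20.Sq

open Equiv Equiv.Perm

theorem solv30 {T : Type*} [Group T] (h : Nat.card T ∣ 30) : Group.IsSolvable T := by
  have : Finite T := Nat.finite_of_card_ne_zero fun e => by simp [e] at h
  have := IsZGroup.of_squarefree (G := T) (Squarefree.squarefree_of_dvd h (by decide +kernel))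
  infer_instance

theorem alt_le {α : Type*} [Fintype α] [DecidableEq α] (h5 : Fintype.card α = 5) {H : Subgroup (Perm α)}
    (hH : ¬ Group.IsSolvable H) : alternatingGroup α ≤ H := by
  have : Nontrivial α := Fintype.one_lt_card_iff_nontrivial.1 (by omega)
  have := alternatingGroup.isSimpleGroup (α := α) (by rw [Nat.card_eq_fintype_card, h5])
  have c : Nat.card (Perm α) = 120 := by rw [Nat.card_perm, Nat.card_eq_fintype_card, h5]; rfl
  by_contra n
  have a := H26.A8.five_le_index (T := alternatingGroup α) (fun s => hH (by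
    have : Group.IsSolvable (Perm α) := Group.isSolvable_of_ker_le_range (alternatingGroup α).subtype sign
      (by rw [Subgroup.range_subtype]; exact le_rfl)
    infer_instance)) (U := H.subgroupOf _) fun e => n (Subgroup.subgroupOf_eq_top.1 e)
  have b1 := Subgroup.relIndex_mul_index (inf_le_right : H ⊓ alternatingGroup α ≤ _)
  have b2 := Subgroup.relIndex_mul_index (inf_le_left : H ⊓ alternatingGroup α ≤ _)
  have b3 := Nat.le_of_dvd (by rw [alternatingGroup.index_eq_two]; decide) ((alternatingGroup α).relIndex_dvd_index_of_normal H)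
  rw [Subgroup.inf_relIndex_right, alternatingGroup.index_eq_two] at b1
  rw [Subgroup.inf_relIndex_left] at b2
  rw [alternatingGroup.index_eq_two] at b3
  have b4 : 5 ≤ H.index := by change 5 ≤ H.relIndex _ at a; nlinarith
  have b5 := H.card_mul_index
  have b6 := H.card_subgroup_dvd_card
  rw [c] at b5 b6
  have b7 := H26.A8.three_primes hH (b6.trans (by decide))
  have b8 : Nat.card H ≤ 24 := by nlinarith
  refine hH (solv30 ?_)
  generalize Nat.card H = m at b6 b7 b8
  interval_cases m <;> simp_all

variable {G : Type*} [Group G] [Finite G] {ψ : G →* Perm (Fin 8)} (hψ : Function.Injective ψ)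

theorem dvd_three {K : Subgroup G} (h : ∀ g ∈ K, g ≠ 1 → IsThreeCycle (ψ g)) : Nat.card K ∣ 3 := by
  classical
  have := Fintype.ofFinite K
  letI := MulAction.compHom (Fin 8) (ψ.comp K.subtype)
  have a := MulAction.sum_card_fixedBy_eq_card_orbits_mul_card_group K (Fin 8)
  rw [Finset.sum_congr rfl (g := fun g => 5 + if g = 1 then 3 else 0) fun g _ => by
    rw [Fintype.card_of_subtype (ψ g).supportᶜ fun x => by simp; rfl, Finset.card_compl]
    split_ifs with e
    · simp [e]
    · rw [(h g g.2 fun t => e (Subtype.ext t)).card_support]; rfl] at a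
  simp only [Finset.sum_add_distrib, Finset.sum_const, Finset.card_univ, smul_eq_mul, Finset.sum_ite_eq', Finset.mem_univ,
    if_true] at a
  rw [Nat.card_eq_fintype_card, Nat.dvd_add_iff_right (dvd_mul_right _ 5), a]
  exact dvd_mul_left _ _

variable (hA : ∀ g, sign (ψ g) = 1) (hns : ¬ Group.IsSolvable G)
include hψ hA hns

theorem three_cycle {M : Subgroup G} [M.Normal] [IsMulCommutative M] {p : ℕ} (hp : p.Prime) (h2 : p ≠ 2)
    (he : ∀ x : M, x ^ p = 1) {x : G} (hx : x ∈ M) (h1 : x ≠ 1) : IsThreeCycle (ψ x) := by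
  have := Fact.mk hp
  have c : Nat.card G ∣ 20160 := H26.A8.card_a8 ▸ Subgroup.card_dvd_of_injective (ψ.codRestrict (alternatingGroup _) hA)
    fun a b e => hψ (congrArg Subtype.val e)
  obtain ⟨r, hr⟩ := IsPGroup.exists_card_eq (p := p) (G := M) fun x => ⟨1, by rw [pow_one, he]⟩
  have o : orderOf x = p := orderOf_eq_prime (congrArg Subtype.val (he ⟨x, hx⟩)) h1
  have hp' := H26.A8.prime_dvd hp ((o ▸ orderOf_dvd_natCard x).trans c)
  have a : Nat.card (MulAut M) ∣ 48 := by
    have d := hr ▸ M.card_subgroup_dvd_card.trans c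
    rw [H26.card_mulAut_of_elementary he hr]
    have : r ≤ 2 := by
      by_contra n
      have := (pow_dvd_pow p (show 3 ≤ r by omega)).trans d
      rcases hp' with rfl | rfl | rfl | rfl <;> simp_all
    rcases hp' with rfl | rfl | rfl | rfl <;> interval_cases r <;> first | decide | simp_all
  have b : ¬ Group.IsSolvable (Subgroup.centralizer {x} : Subgroup G) := fun s => hns (by
    have : Group.IsSolvable (MulAut M) := by_contra fun n => by
      rcases (H26.A8.three_primes n (a.trans (by decide))).1 with e | e <;> exact absurd (e.trans a) (by decide)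
    exact Group.isSolvable_of_ker_le_range (Subgroup.subtype _) (MulAut.conjNormal : G →* MulAut M) fun g hg =>
      ⟨⟨g, Subgroup.mem_centralizer_singleton_iff.2 (mul_inv_eq_iff_eq_mul.1
        (congrArg Subtype.val (DFunLike.congr_fun hg ⟨x, hx⟩)))⟩, rfl⟩)
  have d := Subgroup.card_dvd_of_injective ((ψ.comp (Subgroup.centralizer {x}).subtype).codRestrict (Subgroup.centralizer {ψ x})
    fun g => Subgroup.mem_centralizer_singleton_iff.2 (by
      simpa using congrArg ψ (Subgroup.mem_centralizer_singleton_iff.1 g.2)))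
    fun a b e => Subtype.ext (hψ (congrArg Subtype.val e))
  have o' : orderOf (ψ x) = p := (orderOf_injective ψ hψ x).trans o
  obtain ⟨n, e⟩ := cycleType_prime_order (o' ▸ hp)
  have s := sum_cycleType_le (ψ x)
  rw [o'] at e
  rw [nat_card_centralizer, e] at d
  rw [e, Multiset.sum_replicate, smul_eq_mul, Fintype.card_fin] at s
  have t := H26.A8.three_primes b ((Subgroup.card_subgroup_dvd_card _).trans c)
  have : n ≤ 1 := by have := hp.two_le; rcases hp' with rfl | rfl | rfl | rfl <;> omega
  rcases hp' with rfl | rfl | rfl | rfl <;> interval_cases n <;> try omega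
  · exact e
  · rcases t.1 with t | t <;> exact absurd (t.trans d) (by decide)
  · exact absurd (solv30 (d.trans (by decide))) b
  · rcases t.2.2 with t | t <;> exact absurd (t.trans d) (by decide)

theorem odd_case {M : Subgroup G} [hM : M.Normal] [IsMulCommutative M] {p : ℕ} (hp : p.Prime) (h2 : p ≠ 2)
    (he : ∀ x : M, x ^ p = 1) (h0 : M ≠ ⊥) : Nat.card (pCore 3 G) = 3 ∧
      (Nonempty (G ⧸ pCore 3 G ≃* alternatingGroup (Fin 5)) ∨ Nonempty (G ⧸ pCore 3 G ≃* Perm (Fin 5))) := by
  have := Fact.mk Nat.prime_three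
  obtain ⟨⟨x, hx⟩, h1⟩ := Subgroup.ne_bot_iff_exists_ne_one.1 h0
  replace h1 : x ≠ 1 := fun e => h1 (Subtype.ext e)
  have t := three_cycle hψ hA hns hp h2 he hx h1
  have o : Nat.card (Subgroup.zpowers x) = 3 := by rw [Nat.card_zpowers, ← orderOf_injective ψ hψ, t.orderOf]
  have m := Subgroup.eq_of_le_of_card_ge (Subgroup.zpowers_le.2 hx)
    (o ▸ Nat.le_of_dvd three_pos (dvd_three fun g hg => three_cycle hψ hA hns hp h2 he hg))
  have s : ∀ g, ∀ a ∈ (ψ x).support, ψ g a ∈ (ψ x).support := fun g a ha => by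
    obtain ⟨k, e⟩ := m.ge (hM.conj_mem x hx g)
    refine support_zpow_le _ k ?_
    rw [← map_zpow, show x ^ k = _ from e, map_mul, map_mul, map_inv, support_conj]
    exact Finset.mem_map_of_mem _ ha
  let ρ : G →* Perm {a // a ∉ (ψ x).support} := MonoidHom.mk' (fun g => (ψ g).subtypePerm fun a =>
    not_congr ⟨fun h => by simpa using s g⁻¹ _ h, s g a⟩) fun g h => Equiv.ext fun a => Subtype.ext (by
      change ψ (g * h) a.1 = ψ g (ψ h a.1)
      rw [map_mul]; rfl)
  have k : ∀ g, g ∈ ρ.ker ↔ (ψ g).support ⊆ (ψ x).support := fun g =>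
    ⟨fun h a ha => by_contra fun n => mem_support.1 ha
        (congrArg Subtype.val (DFunLike.congr_fun (MonoidHom.mem_ker.1 h) (⟨a, n⟩ : {a // a ∉ (ψ x).support})) :),
      fun h => Equiv.ext fun a => Subtype.ext (notMem_support.1 fun n => a.2 (h n))⟩
  have k3 : Nat.card ρ.ker = 3 := Nat.dvd_antisymm (dvd_three (ψ := ψ) fun g hg n => by
    have a := (Finset.card_le_card ((k g).1 hg)).trans t.card_support.le
    have b := two_le_card_support_of_ne_one (f := ψ g) (by rwa [Ne, map_eq_one_iff _ hψ])
    refine card_support_eq_three_iff.1 (le_antisymm a (Nat.succ_le_of_lt (lt_of_le_of_ne b fun c => ?_)))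
    simpa [hA] using (card_support_eq_two.1 c.symm).sign_eq)
    (o ▸ Subgroup.card_dvd_of_le (Subgroup.zpowers_le.2 ((k x).2 subset_rfl)))
  have kp : IsPGroup 3 ρ.ker := IsPGroup.of_card (n := 1) k3
  have c5 : Fintype.card {a // a ∉ (ψ x).support} = 5 := by
    rw [Fintype.card_subtype_compl, Fintype.card_coe, t.card_support]; rfl
  have al := alt_le c5 (H := ρ.range) fun s => hns (by
    have := kp.isNilpotent
    exact Group.isSolvable_of_ker_le_range ρ.ker.subtype ρ.rangeRestrict (by simp))
  have e : pCore 3 G = ρ.ker := le_antisymm (by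
    have := alternatingGroup.isSimpleGroup (α := {a // a ∉ (ψ x).support}) (by rw [Nat.card_eq_fintype_card, c5])
    have o3 := (H1.isPGroup_pCore 3 G).map ρ
    have n : (((pCore 3 G).map ρ).subgroupOf (alternatingGroup _)).Normal := ⟨fun a ⟨z, hz, e⟩ g => by
      obtain ⟨y, hy⟩ := al g.2
      exact ⟨y * z * y⁻¹, (inferInstance : (pCore 3 G).Normal).conj_mem _ hz y, by simp [hy, e]⟩⟩
    rcases n.eq_bot_or_eq_top with h | h
    · intro z hz
      obtain ⟨j, hj⟩ := o3 ⟨_, z, hz, rfl⟩
      have a : sign (ρ z) = 1 := by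
        have := congrArg (fun y => sign y.1) hj
        rcases Int.units_eq_one_or (sign (ρ z)) with b | b
        · exact b
        · simp [b, (show Odd (3 ^ j) from Odd.pow (by decide)).neg_one_pow] at this
      exact congrArg Subtype.val (h.le (show (⟨ρ z, a⟩ : alternatingGroup _) ∈ _ from ⟨z, hz, rfl⟩))
    · obtain ⟨j, hj⟩ := o3.exists_card_eq
      have : Nontrivial {a // a ∉ (ψ x).support} := Fintype.one_lt_card_iff_nontrivial.1 (by omega)
      have a := Subgroup.card_dvd_of_le (Subgroup.subgroupOf_eq_top.1 h)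
      rw [hj, nat_card_alternatingGroup, Nat.card_eq_fintype_card, c5] at a
      exact absurd (Nat.prime_two.dvd_of_dvd_pow ((show 2 ∣ _ by decide).trans a)) (by decide))
    (le_sSup ⟨inferInstance, kp⟩)
  exact ⟨e ▸ k3, H26.A8.alt_or_perm c5 (by decide) (QuotientGroup.lift _ ρ e.le)
    ((QuotientGroup.injective_lift_iff _ _ _).2 e) (al.trans (by rintro _ ⟨g, rfl⟩; exact ⟨g, rfl⟩))⟩

end Cfsg.Agent.H20.Sq
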