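import Cfsg.Agent.H20.Sq2
import Cfsg.Agent.S3103
import Cfsg.Agent.H26.SRank2

/-! A 2-constrained group whose quotient by the 2-core contains the symmetric group of degree six. -/

set_option autoImplicit false
set_option linter.style.haveILetI false

namespace Cfsg.Agent.H20.Sq

open Equiv Equiv.Perm

theorem no6 {X : Type*} [Group X] [Finite X] (hc : IsPConstrained 2 X) (hO : oddCore X = ⊥)
    (h4 : SectionalPRankLE 2 4 ↥(pCore 2 X)) (ι : Perm (Fin 6) →* X ⧸ pCore 2 X) (hι : Function.Injective ι) :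
    ¬ H11.SR 4 (⊤ : Subgroup X) := by
  have hC := (H9.isPConstrained_iff_of_pPrimeCore_eq_bot hO).1 hc
  have hQ := H1.isPGroup_pCore 2 X
  set Q := pCore 2 X with hQd
  have hcomm : IsMulCommutative (Q ⧸ frattini Q) :=
    Subgroup.Normal.quotient_commutative_iff_commutator_le.2 (H3.commutator_le_frattini hQ)
  have hexp : ∀ x : Q ⧸ frattini Q, x ^ 2 = 1 := fun x => by
    obtain ⟨y, rfl⟩ := QuotientGroup.mk_surjective x
    rw [← QuotientGroup.mk_pow, QuotientGroup.eq_one_iff]
    exact H3.pow_mem_frattini hQ y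
  obtain ⟨r, hr⟩ := (hQ.to_quotient (frattini Q)).exists_card_eq
  have hr4 : r ≤ 4 := by
    have e := QuotientGroup.congr ((frattini Q).subgroupOf ⊤) (frattini Q) Subgroup.topEquiv (by
      ext x; simp [Subgroup.mem_subgroupOf])
    have h1 := h4 ⊤ ((frattini Q).subgroupOf ⊤) ⊤
      ⟨⟨fun a b => Subtype.ext (e.injective (by simp [mul_comm']))⟩⟩
      fun a _ => e.injective (by rw [map_pow, hexp, map_one])
    rw [Subgroup.card_top, Nat.card_congr e.toEquiv, hr] at h1
    exact (Nat.pow_le_pow_iff_right (by norm_num)).1 h1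
  let θ := (H26.quotAut (frattini Q)).comp (MulAut.conjNormal : X →* MulAut Q)
  have hm : ∀ g, g ∈ θ.ker ↔ ∀ x : Q, MulAut.conjNormal g x * x⁻¹ ∈ frattini Q := fun g => by
    rw [← H26.mem_ker_quotAut, MonoidHom.mem_ker, MonoidHom.mem_ker]; rfl
  have hk : θ.ker = Q := by
    refine le_antisymm (le_sSup ⟨inferInstance, H9.isPGroup_of_forall_coprime fun g hg ho => ?_⟩)
      fun g hg => (hm g).2 fun x => ?_
    · have h1 := H26.card_dvd_of_frattini hQ hr (Subgroup.zpowers (MulAut.conjNormal g : MulAut Q))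
        (fun a ha => H26.mem_ker_quotAut _ |>.1 ((Subgroup.zpowers_le.2
          ((H26.mem_ker_quotAut _).2 ((hm g).1 hg))) ha))
      obtain ⟨k, hk⟩ := (hQ.to_subgroup (frattini Q)).exists_card_eq
      rw [Nat.card_zpowers, hk, ← pow_mul] at h1
      have h2 := orderOf_eq_one_iff.1 (Nat.eq_one_of_dvd_coprimes (ho.pow_right _)
        (orderOf_map_dvd _ g) h1)
      have h3 : g ∈ Q := hC fun x hx => by
        have := congrArg Subtype.val (DFunLike.congr_fun h2 ⟨x, hx⟩)
        rw [MulAut.conjNormal_apply, mul_inv_eq_iff_eq_mul] at this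
        exact this.symm
      obtain ⟨j, hj⟩ := hQ ⟨g, h3⟩
      exact orderOf_eq_one_iff.1 (Nat.eq_one_of_dvd_coprimes (ho.pow_right j) dvd_rfl
        (orderOf_dvd_of_pow_eq_one (congrArg Subtype.val hj)))
    · exact H3.commutator_le_frattini hQ (Subgroup.commutator_mem_commutator
        (Subgroup.mem_top (⟨g, hg⟩ : Q)) (Subgroup.mem_top x))
  have hφ : Function.Injective ((QuotientGroup.lift Q θ hk.ge).comp ι) :=
    ((QuotientGroup.injective_lift_iff _ _ hk.ge).2 hk.symm).comp hι
  have d := Subgroup.card_dvd_of_injective _ hφ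
  rw [H26.card_mulAut_of_elementary hexp hr, Nat.card_perm, Nat.card_eq_fintype_card, Fintype.card_fin] at d
  obtain rfl : r = 4 := by
    interval_cases r
    all_goals first | rfl | exact absurd d (by decide)
  exact @s6 X _ (Q ⧸ frattini Q) _ _ _ { (inferInstance : Group (Q ⧸ frattini Q)) with mul_comm := mul_comm' } _
    (QuotientGroup.mk' Q) ι hι (QuotientGroup.mk'_surjective _) Q _ (QuotientGroup.ker_mk' _)
    (QuotientGroup.mk' (frattini Q)) (QuotientGroup.mk'_surjective _) _ hφ
    (fun y s x e => by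
      change QuotientGroup.lift Q θ hk.ge (ι s) _ = _
      rw [← e]; rfl) hr fun v => (sq v).symm.trans (hexp v)

def sw : ℤˣ →* Perm (Fin 2) := MonoidHom.mk' (fun u => if u = 1 then 1 else swap 0 1) (by decide)

theorem s6a8 : ∃ ι : Perm (Fin 6) →* alternatingGroup (Fin 8), Function.Injective ι := by
  let j : Perm (Fin 6) →* Perm (Fin 8) := (finSumFinEquiv (m := 6) (n := 2)).permCongrHom.toMonoidHom.comp
    ((sumCongrHom (Fin 6) (Fin 2)).comp ((MonoidHom.id _).prod (sw.comp sign)))
  refine ⟨j.codRestrict _ fun g => ?_, fun a b e => ?_⟩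
  · have : ∀ u, sign (sw u) = u := by decide
    change sign ((finSumFinEquiv (m := 6) (n := 2)).permCongr (g.sumCongr (sw (sign g)))) = 1
    rw [sign_permCongr, sign_sumCongr, this, Int.units_mul_self]
  · exact congrArg Prod.fst (sumCongrHom_injective ((finSumFinEquiv (m := 6) (n := 2)).permCongrHom.injective
      (congrArg Subtype.val e)))

end Cfsg.Agent.H20.Sq
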